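import Cfsg.Agent.Lib.D4S.Cub
import Cfsg.Agent.Lib.Twist.Small
import Cfsg.Agent.Lib.Comp.Component
import Cfsg.Agent.S0205

/-! Standard components of type `³D₄(2ⁿ)`: the cubic extension of a finite field; the layer. -/

set_option autoImplicit false
set_option linter.unusedSectionVars false

namespace H89.D4S
open Subgroup Cfsg
open scoped commutatorElement

theorem exists_cub (E : Type*) [Field E] [Fintype E] [CharP E 2] {q : ℕ} (hq : IsPrimePow q)
    (h : Fintype.card E = q ^ 3) : ∃ (F : Subfield E) (_ : Cub F E), Nat.card F = q := by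
  obtain ⟨f, hf⟩ := H39.exists_frob' hq h
  have h3 : ∀ x, f (f (f x)) = x := fun x => by
    rw [hf, hf, hf, ← pow_mul, ← pow_mul, ← sq, ← pow_succ', ← h, FiniteField.pow_card]
  let F : Subfield E := (f : E →+* E).eqLocusField (RingHom.id E)
  have m : ∀ {x}, x ∈ F ↔ f x = x := Iff.rfl
  refine ⟨F, {
    ι := F.subtype
    θ := f
    T := { toFun x := ⟨x + f x + f (f x), m.2 (by simp only [map_add, h3]; ring)⟩
           map_zero' := Subtype.ext (by simp)
           map_add' a b := Subtype.ext (by simp only [map_add, Subfield.coe_add]; ring) }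
    N := { toFun x := ⟨x * f x * f (f x), m.2 (by simp only [map_mul, h3]; ring)⟩
           map_one' := Subtype.ext (by simp)
           map_mul' a b := Subtype.ext (by simp only [map_mul, Subfield.coe_mul]; ring) }
    ι_inj := Subtype.val_injective
    θ3 := h3
    θι a := a.2
    ιT _ := rfl
    ιN _ := rfl
    nd x hx := by
      by_contra h0
      have : (x * x⁻¹ + f (x * x⁻¹) + f (f (x * x⁻¹)) : E) = 0 := congrArg Subtype.val (hx x⁻¹)
      rw [mul_inv_cancel₀ h0, map_one, map_one, CharTwo.add_self_eq_zero, zero_add] at this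
      exact one_ne_zero this }, ?_⟩
  rw [← H39.card_fixed hq.pos h]
  exact Nat.card_congr (Equiv.subtypeEquivRight fun x => by rw [m, hf])

variable {G : Type*} [Group G] [Finite G]

theorem isComponent_of_simple {Y A : Subgroup G} [Y.Normal] (h : A ≤ Y) (hA : Y ≤ normalizer (A : Set G))
    (hs : IsSimpleGroup A) (hp : ⁅A, A⁆ = A) : IsComponent A := by
  have hc : commutator A = ⊤ := by
    rw [← Subgroup.map_subtype_inj, Subgroup.map_subtype_commutator, hp, ← MonoidHom.range_eq_map,
      range_subtype]
  have hz : center A = ⊥ := (hs.eq_bot_or_eq_top_of_normal _ inferInstance).resolve_right fun e => by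
    have : commutator A = ⊥ := by
      rw [_root_.commutator_def, commutator_eq_bot_iff_le_centralizer, coe_top, centralizer_univ, e]
    exact bot_ne_top (this.symm.trans hc)
  refine ⟨H23.isSubnormal_of_le_normalizer (Normal.isSubnormal ‹_›) h hA, ⟨hc⟩, ?_⟩
  exact ((QuotientGroup.quotientMulEquivOfEq hz).trans QuotientGroup.quotientBot).isSimpleGroup

theorem layer_eq {Y : Subgroup G} [Y.Normal] (h : Y ≤ layer G)
    (ho : ∀ g ∈ centralizer (Y : Set G), Odd (orderOf g)) : layer G = Y := by
  refine le_antisymm (H23.layer_le_iff.2 fun L hL => ?_) h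
  refine (H23.IsComponent.le_or_commutator_eq_bot hL (Normal.isSubnormal ‹_›)).resolve_right fun e => ?_
  rw [commutator_eq_bot_iff_le_centralizer] at e
  refine H23.IsComponent.not_le_of_isSolvable hL (Cfsg.Agent.S0205.result (G := L) ?_) le_rfl
  rw [← Nat.not_even_iff_odd, even_iff_two_dvd]
  intro h2
  obtain ⟨x, hx⟩ := exists_prime_orderOf_dvd_card' (G := L) 2 h2
  have := ho x (e x.2)
  rw [Subgroup.orderOf_coe, hx] at this
  exact absurd this (by decide)

end H89.D4S
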