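import Mathlib

/-! # Cubic extensions of commutative rings of characteristic 2 (trace, norm, adjoint) -/

set_option autoImplicit false
set_option linter.unusedSectionVars false
set_option linter.unusedVariables false
set_option linter.unusedSimpArgs false
set_option linter.unnecessarySeqFocus false

namespace H89.D4S

/-- `J` is a cyclic cubic extension of `K` -/
class Cub (K : outParam Type*) (J : Type*) [CommRing K] [CommRing J] where
  ι : K →+* J
  θ : J →+* J
  T : J →+ K
  N : J →* K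
  ι_inj : Function.Injective ι
  θ3 : ∀ x, θ (θ (θ x)) = x
  θι : ∀ a, θ (ι a) = ι a
  ιT : ∀ x, ι (T x) = x + θ x + θ (θ x)
  ιN : ∀ x, ι (N x) = x * θ x * θ (θ x)
  nd : ∀ x, (∀ y, T (x * y) = 0) → x = 0

export Cub (ι θ T N ι_inj θ3 θι ιT ιN nd)
attribute [simp] θ3 θι

section ring
variable {K J K' J' K'' J'' : Type*} [CommRing K] [CommRing J] [Cub K J] [CommRing K'] [CommRing J']
  [Cub K' J'] [CommRing K''] [CommRing J''] [Cub K'' J'']

/-- the adjoint `x^#` -/
def sh (x : J) : J := θ x * θ (θ x)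
/-- its polarisation `x × y` -/
def cr (x y : J) : J := θ x * θ (θ y) + θ (θ x) * θ y

/-- closes identities in `J` between polynomials in `ι, T, N, sh, cr` -/
macro "cub" : tactic =>
  `(tactic| ((try simp only [map_add, map_mul, map_pow, map_one, map_zero, ιT, ιN, θι, θ3, sh, cr]) <;>
    grind))
/-- `cubK J` closes identities in the base ring of `J` -/
macro "cubK " J:term : tactic => `(tactic| (apply ι_inj (J := $J); cub))

@[simp] theorem N_zero : N (0 : J) = 0 := ι_inj (J := J) (by simp [ιN])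
@[simp] theorem sh_zero : sh (0 : J) = 0 := by simp [sh]
@[simp] theorem sh_one : sh (1 : J) = 1 := by simp [sh]
@[simp] theorem cr_zero (x : J) : cr x 0 = 0 := by simp [cr]
@[simp] theorem zero_cr (x : J) : cr 0 x = 0 := by simp [cr]
theorem cr_comm (x y : J) : cr x y = cr y x := by simp only [cr]; ring
theorem cr_add (x y z : J) : cr x (y + z) = cr x y + cr x z := by simp only [cr, map_add]; ring
theorem add_cr (x y z : J) : cr (x + y) z = cr x z + cr y z := by simp only [cr, map_add]; ring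
theorem sh_add (x y : J) : sh (x + y) = sh x + cr x y + sh y := by simp only [sh, cr, map_add]; ring
theorem sh_mul (x y : J) : sh (x * y) = sh x * sh y := by simp only [sh, map_mul]; ring
theorem cr_mul (k x y : J) : cr (k * x) (k * y) = sh k * cr x y := by simp only [sh, cr, map_mul]; ring
@[simp] theorem sh_ι (a : K) : sh (ι a : J) = ι (a ^ 2) := by simp [sh, sq]
theorem cr_ι (a : K) (x y : J) : cr x (ι a * y) = ι a * cr x y := by simp only [cr, map_mul, θι]; ring
theorem ι_cr (a : K) (x y : J) : cr (ι a * x) y = ι a * cr x y := by simp only [cr, map_mul, θι]; ring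
theorem mul_sh (x : J) : x * sh x = ι (N x) := by simp only [sh, ιN]; ring
theorem sh_sh (x : J) : sh (sh x) = ι (N x) * x := by simp only [sh, ιN, map_mul, θ3]; ring
@[simp] theorem T_ι_mul (a : K) (x : J) : T (ι a * x) = a * T x :=
  ι_inj (J := J) (by simp only [ιT, map_mul, θι]; ring)
@[simp] theorem T_mul_ι (a : K) (x : J) : T (x * ι a) = T x * a :=
  ι_inj (J := J) (by simp only [ιT, map_mul, θι]; ring)
@[simp] theorem N_ι (a : K) : N (ι a : J) = a ^ 3 := ι_inj (J := J) (by simp only [ιN, map_pow, θι]; ring)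
@[simp] theorem T_θ (x : J) : T (θ x) = T x := ι_inj (J := J) (by simp only [ιT, θ3]; ring)
@[simp] theorem N_θ (x : J) : N (θ x) = N x := ι_inj (J := J) (by simp only [ιN, θ3]; ring)
theorem N_sh (x : J) : N (sh x) = N x ^ 2 := ι_inj (J := J) (by simp only [ιN, sh, map_mul, map_pow, θ3]; ring)
theorem N_add (x y : J) : N (x + y) = N x + T (sh x * y) + T (x * sh y) + N y :=
  ι_inj (J := J) (by simp only [ιN, ιT, sh, map_mul, map_add, θ3]; ring)
theorem T_cr (x y z : J) : T (cr x y * z) = T (x * cr y z) :=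
  ι_inj (J := J) (by simp only [ιT, cr, map_mul, map_add, θ3]; ring)
@[simp] theorem ι_eq_zero {a : K} : (ι a : J) = 0 ↔ a = 0 := map_eq_zero_iff _ ι_inj
@[simp] theorem ι_eq_iff {a b : K} : (ι a : J) = ι b ↔ a = b := ι_inj.eq_iff

variable [CharP K 2] [CharP J 2] [CharP K' 2] [CharP J' 2] [CharP K'' 2] [CharP J'' 2]

@[simp] theorem T_ι (a : K) : T (ι a : J) = a := by cubK J
@[simp] theorem T_one : T (1 : J) = 1 := by cubK J
@[simp] theorem cr_self (x : J) : cr x x = 0 := by cub
theorem cr_one (x : J) : cr x 1 = x + ι (T x) := by cub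
theorem one_cr (x : J) : cr 1 x = x + ι (T x) := by cub
theorem T_mul_sh (x : J) : T (x * sh x) = N x := by cubK J
theorem T_sq (x : J) : T (x ^ 2) = T x ^ 2 := by cubK J
theorem cr_eq (x y : J) : cr x y = ι (T x) * y + ι (T y) * x + ι (T x * T y + T (x * y)) := by cub
theorem sq_eq (x : J) : x ^ 2 = sh x + ι (T x) * x + ι (T (sh x)) := by cub
theorem sq_mul_eq (x y : J) : x ^ 2 * y = ι (T (x * y)) * x + cr (sh x) y := by cub
theorem T_cr_self (x y : J) : T (x * cr x y) = 0 := by cubK J
theorem ιT_of_fix {x : J} (h : θ x = x) : ι (T x) = x := by rw [ιT, h, h]; grind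

/-- `ρ` is compatible with trace and adjoint -/
structure Tc (ρ : J →+* J') : Prop where
  tr : ∀ x, ρ (ι (T x)) = ι (T (ρ x))
  sh : ∀ x, ρ (sh x) = sh (ρ x)

namespace Tc
variable {ρ : J →+* J'} (h : Tc ρ)
include h
theorem ιr (a : K) : ι (T (ρ (ι a))) = ρ (ι a) := by rw [← h.tr, T_ι]
/-- the map induced on the base rings -/
def res : K →+* K' where
  toFun a := T (ρ (ι a))
  map_one' := by simp
  map_zero' := by simp
  map_add' a b := by simp
  map_mul' a b := ι_inj (J := J') (by rw [map_mul ι (T _), h.ιr, h.ιr, h.ιr, map_mul, map_mul])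
theorem res_def (a : K) : h.res a = T (ρ (ι a)) := rfl
@[simp] theorem ι_res (a : K) : ι (h.res a) = ρ (ι a) := h.ιr a
@[simp] theorem res_T (x : J) : h.res (T x) = T (ρ x) := ι_inj (J := J') (by rw [ι_res, h.tr])
@[simp] theorem res_N (x : J) : h.res (N x) = N (ρ x) :=
  ι_inj (J := J') (by rw [ι_res, ← mul_sh, ← mul_sh, map_mul, h.sh])
theorem cr (x y : J) : ρ (cr x y) = cr (ρ x) (ρ y) := by
  have := h.sh (x + y)
  rw [map_add ρ x, sh_add, sh_add, map_add, map_add, h.sh, h.sh] at this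
  exact add_left_cancel (add_right_cancel this)
theorem comp {ρ' : J' →+* J''} (h' : Tc ρ') : Tc (ρ'.comp ρ) :=
  ⟨fun x => by simp [h.tr, h'.tr], fun x => by simp [h.sh, h'.sh]⟩
end Tc
theorem Tc.id : Tc (RingHom.id J) := ⟨fun _ => rfl, fun _ => rfl⟩
theorem Tc.refl : Tc (RingEquiv.refl J : J →+* J) := ⟨fun _ => rfl, fun _ => rfl⟩
theorem Tc.symm {ρ : J ≃+* J'} (h : Tc (ρ : J →+* J')) : Tc (ρ.symm : J' →+* J) :=
  ⟨fun x => ρ.injective (by simpa using (h.tr (ρ.symm x)).symm),
    fun x => ρ.injective (by simpa using (h.sh (ρ.symm x)).symm)⟩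
theorem Tc.trans {ρ : J ≃+* J'} {ρ' : J' ≃+* J''} (h : Tc (ρ : J →+* J')) (h' : Tc (ρ' : J' →+* J'')) :
    Tc (ρ.trans ρ' : J →+* J'') := h.comp h'
theorem Tc.mul {ρ ρ' : J ≃+* J} (h : Tc (ρ : J →+* J)) (h' : Tc (ρ' : J →+* J)) :
    Tc ((ρ * ρ' : J ≃+* J) : J →+* J) := h'.comp h
theorem Tc.of_comm {ρ : J →+* J'} (h : ∀ x, ρ (θ x) = θ (ρ x)) : Tc ρ :=
  ⟨fun x => by simp [ιT, h], fun x => by simp [D4S.sh, h]⟩

instance instProd : Cub (K × K') (J × J') where
  ι := RingHom.prodMap ι ι
  θ := RingHom.prodMap θ θ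
  T := AddMonoidHom.prodMap T T
  N := MonoidHom.prodMap N N
  ι_inj := ι_inj.prodMap ι_inj
  θ3 x := by ext <;> simp
  θι x := by ext <;> simp
  ιT x := by ext <;> simp [ιT]
  ιN x := by ext <;> simp [ιN]
  nd x h := Prod.ext (nd _ fun y => by simpa using congrArg Prod.fst (h (y, 0)))
    (nd _ fun y => by simpa using congrArg Prod.snd (h (0, y)))
@[simp] theorem ι_prod (a : K × K') : (ι a : J × J') = (ι a.1, ι a.2) := rfl
@[simp] theorem θ_prod (a : J × J') : θ a = (θ a.1, θ a.2) := rfl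
@[simp] theorem T_prod (a : J × J') : T a = (T a.1, T a.2) := rfl
@[simp] theorem N_prod (a : J × J') : N a = (N a.1, N a.2) := rfl
@[simp] theorem sh_prod (a : J × J') : sh a = (sh a.1, sh a.2) := rfl
@[simp] theorem cr_prod (a b : J × J') : cr a b = (cr a.1 b.1, cr a.2 b.2) := rfl
theorem Tc.fst : Tc (RingHom.fst J J') := .of_comm fun _ => rfl
theorem Tc.snd : Tc (RingHom.snd J J') := .of_comm fun _ => rfl
theorem Tc.diag : Tc (RingHom.prod (RingHom.id J) (RingHom.id J)) := .of_comm fun _ => rfl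
theorem Tc.prodComm : Tc (RingEquiv.prodComm : J × J' ≃+* J' × J).toRingHom := .of_comm fun _ => rfl

/-- transport along a ring isomorphism -/
@[reducible] def Cub.transport {J₁ : Type*} [CommRing J₁] (e : J₁ ≃+* J) : Cub K J₁ where
  ι := (e.symm : J →+* J₁).comp ι
  θ := (e.symm : J →+* J₁).comp ((θ : J →+* J).comp e)
  T := (T : J →+ K).comp e
  N := (N : J →* K).comp e
  ι_inj := e.symm.injective.comp ι_inj
  θ3 x := by simp
  θι x := by simp
  ιT x := e.injective (by simp [ιT])
  ιN x := e.injective (by simp [ιN])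
  nd x h := e.injective (by
    rw [map_zero]; exact nd _ fun y => by simpa using h (e.symm y))
end ring

end H89.D4S
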