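import Cfsg.Agent.Lib.D4S.PH

/-! Standard components of type `³D₄(2ⁿ)`, package E1: see `blueprint/D4S/README.md`. -/

set_option autoImplicit false
set_option linter.unusedSectionVars false

namespace H89.D4S
open Subgroup H69 U12
open H89.G2S (KK ιK σK)
open scoped commutatorElement

variable {F E G : Type*} [Field F] [Field E] [Cub F E] [CharP F 2] [CharP E 2] [Finite F] [Finite E]
  [Group G] [Finite G]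

namespace E1

theorem exSub (p : G → Prop) (h1 : p 1) (hm : ∀ a b, p a → p b → p (a * b)) :
    ∃ H : Subgroup G, ∀ g, g ∈ H ↔ p g := by
  have hp : ∀ a, p a → ∀ n : ℕ, p (a ^ n) := fun a ha n => by
    induction n with
    | zero => rwa [pow_zero]
    | succ n ih => rw [pow_succ]; exact hm _ _ ih ha
  refine ⟨⟨⟨⟨{g | p g}, fun {a b} => hm a b⟩, h1⟩, fun {x} hx => ?_⟩, fun g => Iff.rfl⟩
  have : x⁻¹ = x ^ (orderOf x - 1) := by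
    rw [eq_comm, ← mul_eq_one_iff_eq_inv, ← pow_succ, Nat.sub_add_cancel (orderOf_pos x),
      pow_orderOf_eq_one]
  rw [this]
  exact hp x hx _

variable {S : St E G} {Z : Z2 S} {g g' n : G}

theorem Y3_zero (Z : Z2 S) (α : F) : Z.Y3 α 0 = 1 := by
  rw [← Z.Y3_sq (α := α) 0, ← Z.Y3_add, add_zero]

theorem cY {α β : F} {v : U12 (JJ E α)} (h : Z.Ph α g v) (hW : ∀ y, g * Z.W y = Z.W y * g) (k : KK β) :
    g * Z.Y3 β k = Z.Y3 β k * g := by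
  rw [Z2.Y3, ← mul_assoc, h.X3, mul_assoc, hW, mul_assoc]

theorem Y1_mem {Qs : Subgroup G} (hQ : S.Q ≤ Qs) (hW : ∀ y, S.n5 * Z.W y * S.n5⁻¹ ∈ Qs) {α : F}
    (k : KK α) : S.n5 * Z.Y3 α k * S.n5⁻¹ ∈ Qs := by
  rw [Z2.Y3, ← conj_mul, S.c5]
  exact mul_mem (hQ (S.X_memQ (by decide) (by decide) _)) (hW _)

/-- the elements acting centrally on `Q` and moving `t` inside `t Q W` -/
structure Qo (Z : Z2 S) (g : G) : Prop where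
  co : S.CO g
  cW : ∀ y, g * Z.W y = Z.W y * g
  ph : ∃ v, v.p0 = 0 ∧ Z.Ph 0 g v
  tt : ∃ x y, x.p0 = 0 ∧ g * S.t * g⁻¹ = S.t * S.φ x * Z.W y

theorem Qo.cY (h : Qo Z g) (k : KK (0 : F)) : g * Z.Y3 0 k = Z.Y3 0 k * g := by
  obtain ⟨v, -, hv⟩ := h.ph
  exact E1.cY hv h.cW k

theorem Qo.mul (h : Qo Z g) (h' : Qo Z g') : Qo Z (g * g') := by
  obtain ⟨v, v0, hv⟩ := h.ph
  obtain ⟨v', v0', hv'⟩ := h'.ph
  obtain ⟨x, y, x0, e⟩ := h.tt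
  obtain ⟨x', y', x0', e'⟩ := h'.tt
  refine ⟨h.co.mul h'.co, fun y => by rw [mul_assoc, h'.cW, ← mul_assoc, h.cW, mul_assoc],
    ⟨v * v', by simp [v0, v0'], hv.mul hv' v0 h.cW⟩,
    x * (x' * g3 (Bf v.re x')), y + (Bf v.im x' + y'), by simp [x0, x0', g3], ?_⟩
  have e1 : g * g' * S.t * (g * g')⁻¹ = g * (g' * S.t * g'⁻¹) * g⁻¹ := by group
  rw [e1, e', ← conj_mul, ← conj_mul, e, Z2.ph_iff.1 hv x' x0', h.cW, mul_inv_cancel_right, ← S.φ3',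
    ← map_mul, map_mul S.φ x, Z.add, Z.add]
  simp only [mul_assoc]
  rw [← mul_assoc (Z.W y), Z.W_P0 y (S.φ_memP _), mul_assoc]

theorem qo_φ {x : U12 E} (hx : x.p0 = 0) : Qo Z (S.φ x) :=
  ⟨S.co_L (S.φ_mem x), fun y => (Z.W_P0 y (S.φ_memP x)).symm, ⟨_, by simp [hx], Z2.ph_φ hx⟩,
    1, 0, rfl, by simp [← S.t_comm (S.φ_mem x)]⟩

theorem Qo.split (hd : S.Db) (h : Qo Z g) (hQ : ∀ x ∈ S.Q, g * x = x * g) :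
    ∃ k o, S.Od o ∧ g = Z.Y3 0 k * o := by
  obtain ⟨x, y, x0, e⟩ := h.tt
  exact Z.tr hd (Z.d0_of hQ x0 e) h.cW

theorem sq_split {k : KK (0 : F)} {o : G} (ho : S.Od o) : Z.Y3 0 k * o * (Z.Y3 0 k * o) = o * o := by
  rw [mul_assoc, ← mul_assoc o, ← Z.Y3_CO k o ho, mul_assoc, ← mul_assoc, Z.Y3_sq, one_mul]

theorem sq_mul (hd : S.Db) (h : Qo Z g) (h' : Qo Z g') (s : Z.InZ (g * g)) (s' : Z.InZ (g' * g')) :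
    Z.InZ (g * g' * (g * g')) := by
  obtain ⟨H, hH⟩ := exSub (Qo Z) (by simpa using qo_φ (Z := Z) (x := 1) rfl) fun _ _ => Qo.mul
  have m := (hH g).2 h
  have m' := (hH g').2 h'
  have k1 : Qo Z ⁅g, g'⁆ := (hH _).1 (mul_mem (mul_mem (mul_mem m m') (inv_mem m)) (inv_mem m'))
  obtain ⟨v, v0, hv⟩ := h.ph
  obtain ⟨v', v0', hv'⟩ := h'.ph
  have p1 := ((hv.mul hv' v0 h.cW).mul (hv.inv h.cW) (by simp [v0, v0']) (h.mul h').cW).mul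
    (hv'.inv h'.cW) (by simp [v0, v0']) ((hH _).1 (mul_mem (mul_mem m m') (inv_mem m))).cW
  obtain ⟨k, o, ho, e⟩ := k1.split hd (p1.cent (by simp; grind) (by simp [v0, v0']; grind)
    (by simp [v0, v0']; grind) (by simp [v0, v0']; grind))
  obtain ⟨a, ha⟩ := (Z.inZ_iff 0).1 s
  obtain ⟨a', ha'⟩ := (Z.inZ_iff 0).1 s'
  have c1 : g * ⁅g, g'⁆ = ⁅g, g'⁆ * g := by
    rw [e, ← mul_assoc, h.cY, mul_assoc, h.co o ho, mul_assoc]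
  have c2 : g' * (g * g) = g * g * g' := by rw [ha, h'.cY]
  have c3 : ⁅g, g'⁆ * ⁅g, g'⁆ = 1 := by
    have e1 : ⁅g, g'⁆ * ⁅g, g'⁆ = (g * ⁅g, g'⁆) * g⁻¹ * ⁅g, g'⁆ := by rw [c1]; group
    have e2 : (g * ⁅g, g'⁆) * g⁻¹ * ⁅g, g'⁆ = (g * g * g') * g⁻¹ * g⁻¹ * g'⁻¹ := by
      simp only [commutatorElement_def]; group
    rw [e1, e2, ← c2]; group
  rw [e, sq_split ho] at c3
  rw [ho.eq_one_sq c3, mul_one] at e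
  refine (Z.inZ_iff 0).2 ⟨k + a + a', ?_⟩
  rw [Z.Y3_add, Z.Y3_add, ← e, ← ha, ← ha', mul_assoc ⁅g, g'⁆, ← mul_assoc (g * g), ← c2]
  simp only [commutatorElement_def]; group

theorem Qo.cj (h : Qo Z g) (hn : n * S.t = S.t * n) (nY : ∀ k, ∃ k', n * Z.Y3 0 k * n⁻¹ = Z.Y3 0 k')
    (nY' : ∀ k, ∃ k', n⁻¹ * Z.Y3 0 k * n⁻¹⁻¹ = Z.Y3 0 k') (nQ : n ∈ 𝐍(S.Q))
    (ph : ∀ v, v.p0 = 0 → Z.Ph 0 g v → ∃ v, v.p0 = 0 ∧ Z.Ph 0 (n * g * n⁻¹) v)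
    (s : Z.InZ (g * g)) : Qo Z (n * g * n⁻¹) ∧ Z.InZ (n * g * n⁻¹ * (n * g * n⁻¹)) := by
  obtain ⟨v, v0, hv⟩ := h.ph
  obtain ⟨x, y, x0, e⟩ := h.tt
  obtain ⟨a, ha⟩ := (Z.inZ_iff 0).1 s
  obtain ⟨x', x0', e'⟩ := S.mem_Q.1 (conj_mem_of_mem_normalizer nQ (S.φ_memQ x0))
  obtain ⟨k, hk⟩ := nY ⟨0, y⟩
  obtain ⟨b, hb⟩ := nY a
  refine ⟨⟨h.co.conj hn, fun y => ?_, ph v v0 hv, x' * g3 k.re, k.im, by simp [x0', g3], ?_⟩,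
    (Z.inZ_iff 0).2 ⟨b, by rw [conj_mul, ha, hb]⟩⟩
  · obtain ⟨k, hk⟩ := nY' ⟨0, y⟩
    rw [Z.Y3_W] at hk
    have : Z.W y = n * Z.Y3 0 k * n⁻¹ := by rw [← hk]; group
    rw [this, conj_mul, conj_mul, h.cY]
  · have : n * g * n⁻¹ * S.t * (n * g * n⁻¹)⁻¹ = n * (g * (n⁻¹ * (S.t * n)) * g⁻¹) * n⁻¹ := by group
    rw [this, ← hn, inv_mul_cancel_left, e, ← conj_mul, ← conj_mul, ← e', ← Z.Y3_W (α := 0), hk, hn,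
      mul_inv_cancel_right, map_mul, S.φ3', Z2.Y3]
    simp only [mul_assoc]

theorem nY_P (hn : n ∈ S.P0) (k : KK (0 : F)) : ∃ k', n * Z.Y3 0 k * n⁻¹ = Z.Y3 0 k' :=
  ⟨k, by rw [← Z.Y3_P0 k hn, mul_inv_cancel_right]⟩

end E1

open E1

theorem Z2.qa {S : St E G} (h : S.Db) (Z : Z2 S) : ∃ Qs, ∀ α, Z.QA α Qs := by
  have q1 : Qo Z 1 := by simpa using qo_φ (Z := Z) (x := 1) rfl
  have z1 : Z.InZ 1 := ⟨0, 0, by simp⟩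
  obtain ⟨Qs, hQ⟩ := exSub (fun g => Qo Z g ∧ Z.InZ (g * g)) ⟨q1, by simpa using z1⟩
    fun a b ha hb => ⟨ha.1.mul hb.1, sq_mul h ha.1 hb.1 ha.2 hb.2⟩
  have t5 := S.t_comm S.n5_mem
  have Qle : S.Q ≤ Qs := fun g hg => by
    obtain ⟨x, x0, rfl⟩ := S.mem_Q.1 hg
    exact (hQ _).2 ⟨qo_φ x0, _, 0, by rw [← map_mul, sq_Q x0, S.φ3', Z.W_zero, mul_one]⟩
  have W1 : ∀ y, S.n5 * Z.W y * S.n5⁻¹ ∈ Qs := fun y => (hQ _).2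
    ⟨⟨(Z.cO y).conj t5.symm, Z.c13 y, ⟨_, rfl, Z.Y3_W (α := 0) y ▸ Z2.ph_Y1 _⟩, g1 y, 0, rfl, by
      have : S.n5 * Z.W y * S.n5⁻¹ * S.t * (S.n5 * Z.W y * S.n5⁻¹)⁻¹ =
        S.n5 * (Z.W y * (S.n5⁻¹ * (S.t * S.n5)) * (Z.W y)⁻¹) * S.n5⁻¹ := by group
      rw [this, t5, inv_mul_cancel_left, Z.ct, ← conj_mul, S.c5, ← t5, mul_inv_cancel_right, S.φ1',
        Z.W_zero, mul_one]; rfl⟩, by rwa [conj_mul, Z.W_sq, mul_one, mul_inv_cancel]⟩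
  have nn : ∀ g ∈ Qs, S.n0 * g * S.n0⁻¹ ∈ Qs := fun g hg => (hQ _).2 (((hQ g).1 hg).1.cj
    (S.t_comm S.n0_mem).symm (nY_P S.n0_memP) (nY_P (inv_mem S.n0_memP)) (S.P0_norm_Q S.n0_memP)
    (fun v _ hv => ⟨_, rfl, hv.n0⟩) ((hQ g).1 hg).2)
  have nx : ∀ g ∈ Qs, ∀ k, S.X 0 k * g * (S.X 0 k)⁻¹ ∈ Qs := fun g hg k => (hQ _).2 (((hQ g).1 hg).1.cj
    (S.t_comm (S.X_mem 0 k)).symm (nY_P (S.X_memP (by decide) k))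
    (nY_P (inv_mem (S.X_memP (by decide) k))) (S.P0_norm_Q (S.X_memP (by decide) k))
    (fun v v0 hv => ⟨_, by simp [g0, v0, CharTwo.add_self_eq_zero], hv.x0 v0 k⟩) ((hQ g).1 hg).2)
  have cW : ∀ g ∈ Qs, ∀ y, g * Z.W y = Z.W y * g := fun g hg => ((hQ g).1 hg).1.cW
  refine ⟨Qs, fun α => ⟨fun g hg => ?_, gen_vec S.cub ?_ ?_ ?_ ?_ ?_, fun g hg hc => ?_, cW,
    fun g hg => ((hQ g).1 hg).1.co, fun g hg => ((hQ g).1 hg).2, Qle, fun y => (hQ _).2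
      ⟨⟨Z.cO y, Z.W_comm y, ⟨1, rfl, Z2.ph_one fun x hx => Z.W_P0 y (S.U_le_P0 (S.Q_le_U hx))⟩,
        g3 y, 0, rfl, by rw [Z.ct, S.φ3', Z.W_zero, mul_one]⟩, by rwa [Z.W_sq]⟩, W1,
    fun g hg => ?_, fun g hg l m => ?_, nn, nx⟩⟩
  · obtain ⟨v, v0, hv⟩ := ((hQ g).1 hg).1.ph
    exact ⟨_, by simp only [U12.cx, U12.re, U12.im, v0]; rfl, hv.cast α⟩
  · rintro u v u0 v0 ⟨a, ha, e⟩ ⟨b, hb, e'⟩
    exact ⟨a * b, mul_mem ha hb, e.mul e' u0 (cW a ha)⟩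
  · rintro u v ⟨a, ha, e⟩ h5 h4 h2 h1
    exact ⟨a, ha, e.congr h5 h4 h2 h1⟩
  · rintro u - ⟨a, ha, e⟩
    exact ⟨_, nn a ha, e.n0⟩
  · rintro u k u0 ⟨a, ha, e⟩
    exact ⟨_, nx a ha k, e.x0 u0 k⟩
  · exact fun k => ⟨_, Y1_mem Qle W1 k, Z2.ph_Y1 k⟩
  · obtain ⟨k, o, ho, e⟩ := ((hQ g).1 hg).1.split h hc
    obtain ⟨a, ha⟩ := (Z.inZ_iff 0).1 ((hQ g).1 hg).2
    rw [e, sq_split ho] at ha
    rw [ho.eq_one_four (by rw [ha, Z.Y3_sq]), mul_one] at e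
    exact (Z.inZ_iff 0).2 ⟨k, e⟩
  · exact (hQ _).2 (((hQ g).1 hg).1.cj rfl (fun k => ⟨_, Z.t_Y3 k⟩)
      (fun k => ⟨_, by rw [S.t_inv]; exact Z.t_Y3 k⟩)
      (centralizer_le_normalizer _ (mem_centralizer_iff_commute.2 fun a ha =>
        (S.t_comm (S.U_le_L (S.Q_le_U ha))).symm))
      (fun v v0 hv => ⟨_, by simp [v0], hv.t⟩) ((hQ g).1 hg).2)
  · exact (hQ _).2 (((hQ g).1 hg).1.cj (S.t_comm (S.hL l m)).symm (fun k => ⟨_, Z.h_Y3 l m k⟩)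
      (fun k => ⟨_, by rw [S.h_inv]; exact Z.h_Y3 _ _ k⟩) (S.h_norm_Q l m)
      (fun v v0 hv => ⟨_, by simp [v0], hv.h l m⟩) ((hQ g).1 hg).2)

end H89.D4S
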