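import Cfsg.Agent.Lib.D4S.PF3
import Cfsg.Agent.Lib.D4S.PF5

/-! Standard components of type `³D₄(2ⁿ)`, package PF6: see `blueprint/D4S/README.md`. -/

set_option autoImplicit false
set_option linter.unusedSectionVars false

namespace H89.D4S
open Subgroup H69 U12
open H89.G2S (KK ιK σK)
open scoped commutatorElement

variable {F E G : Type*} [Field F] [Field E] [Cub F E] [CharP F 2] [CharP E 2] [Finite F] [Finite E]
  [Group G] [Finite G]
  {K J : Type*} [Field K] [Field J] [Cub K J] [CharP K 2] [CharP J 2] [Finite K] [Finite J]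

namespace PF6

theorem mem_of_cj {L : Subgroup G} {l x : G} (hl : l ∈ L) (h : l * x * l⁻¹ ∈ L) : x ∈ L :=
  (mul_mem_cancel_left hl).1 ((mul_mem_cancel_right (inv_mem hl)).1 h)

theorem mem_of_norm {L : Subgroup G} {l x : G} (hl : l ∈ 𝐍(L)) (h : l * x * l⁻¹ ∈ L) : x ∈ L :=
  (mem_normalizer_iff.1 hl x).2 h

variable {S : St E G} {P : FP J G} {j : E →+* J} {σ : J ≃+* J} {A : Subgroup G}
  (h : Top S P.toPin j σ A)
include h

theorem memQ {x : G} (hx : IsConj (P.X 3 1) x) (hU : x ∈ P.U) : x ∈ P.Q := by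
  obtain ⟨u, rfl⟩ := hU
  exact P.φ_memQ (h.cu hx).1

/-- the conjugates of `z` commuting with `z` lie in `Q` -/
theorem key {x : G} (hx : IsConj (P.X 3 1) x) (hc : x * P.X 3 1 = P.X 3 1 * x) : x ∈ P.Q := by
  obtain ⟨Nn, hn, hL, hN⟩ := h.exN
  have x2 := PF1.conj_sq hx (P.X_sq 3 1)
  have xN : x ∈ Nn := by
    obtain ⟨g, rfl⟩ := isConj_iff.1 hx
    exact hn.conj_mem _ (hL (P.X_mem 3 1)) g
  have UC := PF3.U_le_C P
  have UH : P.U ≤ Nn ⊓ centralizer {P.X 3 1} := le_inf (P.U_le_L.trans hL) fun u hu =>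
    mem_centralizer_singleton_iff.2 (UC hu _ (P.X3_mem 1)).symm
  have UH' : P.U ≤ Nn ⊓ 𝐂(P.Z) := le_inf (P.U_le_L.trans hL) UC
  obtain ⟨c, hc1, k⟩ := G2S.exists_cj_mem (hN.mono UH inf_le_left)
    (mem_inf.2 ⟨xN, mem_centralizer_singleton_iff.2 hc⟩) x2
  have cN : c ∈ 𝐍(Nn ⊓ 𝐂(P.Z)) :=
    PF3.norm_inf (le_normalizer_centralizer (h.normZ hL hN) hc1)
  obtain ⟨d, hd, k'⟩ := G2S.exists_cj_mem (hN.mono UH' inf_le_left) (mem_of_norm cN (UH' k)) x2
  exact mem_of_norm (h.normQ hL hN hd) (memQ h (hx.trans (PF1.cj d x)) k')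

theorem memL_of_M {x : G} (hx : IsConj (P.X 3 1) x) (hM : x ∈ P.M) : x ∈ P.L := by
  obtain ⟨l, hl, e⟩ := h.cm hx hM
  exact mem_of_cj hl (e ▸ P.X_mem 3 1)

/-- all conjugates of `z` lie in `L` -/
theorem memL {x : G} (hx : IsConj (P.X 3 1) x) : x ∈ P.L := by
  have x2 := PF1.conj_sq hx (P.X_sq 3 1)
  have LM : P.L ≤ P.M := le_sup_left
  obtain ⟨c, c2, c1, cx, ct, hc⟩ := G2S.dih x2 S.tt fun k => h.noL' (P.X_mem 3 1) (hx.trans k)
  have cM : c ∈ P.M := h.toBig.cM ct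
  by_cases cL : c ∈ P.L
  swap
  · obtain ⟨m, hm, e⟩ := h.conj_t cM c2 cL
    refine memL_of_M h hx (mem_of_cj hm (h.toBig.cM ?_))
    rw [← e]; exact G2S.Gen.cjc cx.symm
  have hc : IsConj x (c * x) := by
    refine hc.resolve_left fun k => ?_
    have := memL_of_M h (hx.trans k) (mul_mem cM h.toBig.t_memM)
    exact h.noL' ((mul_mem_cancel_left cL).1 this) (IsConj.refl _)
  obtain ⟨d, hd, k⟩ := G2S.odd_fix S.tt h.toBig.t_memM h.fixF (X := centralizer {c})
    (mem_centralizer_singleton_iff.2 ct.symm) (G2S.isP_zp x2)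
    (zpowers_le.2 (mem_centralizer_singleton_iff.2 cx.symm))
  have dc : d * c * d⁻¹ = c := mul_inv_eq_iff_eq_mul.2 (mem_centralizer_singleton_iff.1 hd)
  obtain ⟨l, hl, e⟩ := h.cm (hx.trans (PF1.cj d x)) (k x (mem_zpowers x))
  have e1 : l * d * x * (l * d)⁻¹ = P.X 3 1 := by rw [← e]; group
  have j1 : IsConj (P.X 3 1) (l * d * (c * x) * (l * d)⁻¹) := (hx.trans hc).trans (PF1.cj _ _)
  obtain ⟨v, -, ev⟩ := P.mem_Q.1 (key h j1 (by
    rw [← e1]; exact G2S.Gen.cjc (by rw [← mul_assoc x, ← cx])))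
  have lv : Lng v := h.cu (ev ▸ j1)
  have ec : P.φ (v * g3 1) = l * c * l⁻¹ := by
    rw [map_mul, P.φ3', map_one, ev, ← e1, conj_mul, mul_assoc c, x2, mul_one]
    calc _ = l * (d * c * d⁻¹) * l⁻¹ := by group
      _ = _ := by rw [dc]
  obtain ⟨l', hl', e'⟩ := P.inv_lng (u := v * g3 1)
    (lv.mul (by simp [Lng, g3]) (g3_comm 1 v).symm) (fun k => c1 (by
      rw [k, map_one] at ec
      exact conj_eq_one_iff.1 ec.symm))
  have e2 : l' * l * c * (l' * l)⁻¹ = P.X 3 1 := by rw [← e', ec]; group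
  refine mem_of_cj (mul_mem hl' hl) (P.U_le_L (P.Q_le_U (key h (hx.trans (PF1.cj _ x)) ?_)))
  rw [← e2]; exact G2S.Gen.cjc cx.symm

end PF6

namespace Top
variable {S : St E G} {P : FP J G} {j : E →+* J} {σ : J ≃+* J} {A : Subgroup G}
  (h : Top S P.toPin j σ A)
include h
theorem endF : normalClosure (S.L : Set G) = P.L := by
  have e : normalClosure ({P.X 3 1} : Set G) = P.L := by
    refine le_antisymm ((closure_le _).2 fun x hx => ?_) (P.L_le_of_norm
      (le_top.trans (normal_iff_top_le_normalizer.1 inferInstance)) (subset_normalClosure rfl))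
    obtain ⟨a, rfl, ha⟩ := Group.mem_conjugatesOfSet_iff.1 hx
    exact PF6.memL h ha
  have : P.L.Normal := e ▸ inferInstance
  refine le_antisymm (normalClosure_le_normal h.toBig.L_le) ?_
  rw [← e]
  exact normalClosure_mono (by
    rintro _ rfl
    exact h.X1_eq 3 ▸ S.X_mem 3 1)
end Top

end H89.D4S
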