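import Cfsg.Agent.Lib.D4S.PW6
import Cfsg.Agent.Lib.D4S.HP
import Cfsg.Agent.Lib.G2S.GB

/-! Standard components of type `³D₄(2ⁿ)`, package PW7: see `blueprint/D4S/README.md`. -/

set_option autoImplicit false
set_option linter.unusedSectionVars false

namespace H89.D4S
open Subgroup H69 U12
open H89.G2S (KK ιK σK exists_cj_mem zs mem_sup_zp dih odd_fix isP_zp)
open scoped commutatorElement

variable {F E G : Type*} [Field F] [Field E] [Cub F E] [CharP F 2] [CharP E 2] [Finite F] [Finite E]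
  [Group G] [Finite G]

namespace PW7
variable {S : St E G} {Y : Pin (E × E) G} {p₁ p₂ : FP E G} {A : Subgroup G} (h : WS S Y p₁ p₂ A)
include h

theorem cm {x : G} (hc : IsConj (p₁.X 3 1) x) (hx : x ∈ Y.M) : x ∈ p₁.L ∨ x ∈ p₂.L := by
  obtain ⟨c, hc', hS⟩ := exists_cj_mem h.toTop.syl hx (PW6.sq_of hc (p₁.X_sq 3 1))
  have c1 := hc.trans (PW6.cj x c)
  obtain ⟨u₁, u₂, e⟩ := h.mem_U.1 (h.cS c1 hS)
  have : c * x * c⁻¹ ∈ p₁.L ∨ c * x * c⁻¹ ∈ p₂.L := by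
    rw [e] at c1 ⊢
    rcases h.inner c1 with ⟨-, r⟩ | ⟨r, -⟩ <;> rw [r, map_one]
    · left; rw [mul_one]; exact p₁.φ_mem _
    · right; rw [one_mul]; exact p₂.φ_mem _
  have := h.M_perm (inv_mem hc') this
  rwa [show c⁻¹ * (c * x * c⁻¹) * c⁻¹⁻¹ = x by group] at this

theorem cm1 {x : G} (hc : IsConj (p₁.X 3 1) x) (hx : x ∈ p₁.L) :
    ∃ l ∈ p₁.L, l * x * l⁻¹ = p₁.X 3 1 := by
  rcases p₁.inv_L hx (PW6.sq_of hc (p₁.X_sq 3 1)) with r | r | ⟨l, -, r⟩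
  · rw [r, isConj_one_left] at hc
    exact absurd hc (p₁.z_ne)
  · exact r
  · exact absurd (r ▸ hc.trans (PW6.cj x l)) (PW6.caseB h)

theorem z12 : p₁.X 3 1 * S.X 3 1 = p₂.X 3 1 := by rw [h.SX, ← mul_assoc, p₁.X_sq, one_mul]

theorem z21 : p₂.X 3 1 * S.X 3 1 = p₁.X 3 1 := by
  rw [h.SX, h.comm, ← mul_assoc, p₂.X_sq, one_mul]

theorem cz1 {g : G} (hg : g * S.X 3 1 = S.X 3 1 * g) :
    g * p₁.X 3 1 * g⁻¹ = p₁.X 3 1 ∨ g * p₁.X 3 1 * g⁻¹ = p₂.X 3 1 := by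
  have zS : S.X 3 1 ∈ Y.U ⊔ A := mem_sup_left (h.toBig.U_le (S.X_memU (by decide) 1))
  have z1 : p₁.X 3 1 ∈ Y.Z := h.X1 3 1 ▸ Y.X3_mem _
  have le : Y.U ⊔ A ≤ centralizer {S.X 3 1} := (h.toTop.sylC h.fixW).le
  have := zs (Z := zpowers (S.X 3 1)) (h.toTop.sylC h.fixW) ((zpowers_le (H := Y.U ⊔ A)).2 zS)
    (centralizer_zpowers _).ge (x := p₁.X 3 1) (mem_sup_left (Y.Q_le_U (Y.Z_le_Q z1)))
    (fun g hg hS => ?_) (fun Θ _ ho hn => h.toBig.hpZ ho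
      ((le_sup_left.trans le).trans (le_normalizer.trans hn))
      (hn (le_normalizer (le (mem_sup_right h.tA)))) z1) g (mem_centralizer_singleton_iff.2 hg)
  · rw [← sup_bot_eq (zpowers _), mem_sup_zp (S.X_sq 3 1) (by simp), mem_bot, mem_bot,
      commutatorElement_def, p₁.X_inv] at this
    rcases this with r | r
    · left; rw [eq_inv_of_mul_eq_one_left r, p₁.X_inv]
    · right
      rw [eq_mul_inv_of_mul_eq (eq_inv_of_mul_eq_one_right r), S.X_inv, p₁.X_inv, h.SX, h.comm,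
        mul_assoc, p₁.X_sq, mul_one]
  · have hg := mem_centralizer_singleton_iff.1 hg
    have c1 := PW6.cj (p₁.X 3 1) g
    obtain ⟨u₁, u₂, e⟩ := h.mem_U.1 (h.cS c1 hS)
    have c2 : IsConj (p₁.X 3 1) (p₁.φ (u₁ * g3 1) * p₂.φ (u₂ * g3 1)) := by
      have := (PW6.cX h 3 1).trans (PW6.cj _ g)
      rw [← z12 h, ← mul_assoc, mul_assoc _ (S.X 3 1), (Commute.inv_left hg).eq.symm, ← mul_assoc,
        e, h.SX, PW6.mm h (p₁.X_mem 3 1) (p₂.φ_mem u₂)] at this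
      rwa [map_mul, map_mul, PW6.φz, PW6.φz]
    have gi : ∀ u : U12 E, u * g3 1 = 1 → u = g3 1 := fun u r => by
      rw [eq_inv_of_mul_eq_one_left r]; u12
    rw [commutatorElement_def, e, p₁.X_inv]
    rw [e] at c1
    rcases h.inner c1 with ⟨-, r⟩ | ⟨r, -⟩ <;> rcases h.inner c2 with ⟨-, r'⟩ | ⟨r', -⟩
    · rw [r, one_mul] at r'; exact absurd r' PW6.g3_ne
    · rw [r, gi _ r', map_one, mul_one, PW6.φz, p₁.X_sq]; exact one_mem _
    · rw [r, gi _ r', map_one, one_mul, PW6.φz, ← h.comm, ← h.SX]; exact mem_zpowers _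
    · rw [r, one_mul] at r'; exact absurd r' PW6.g3_ne

theorem L1_le : p₁.L ≤ Y.L := fun a ha => h.mem_L.2 ⟨a, ha, 1, one_mem _, (mul_one a).symm⟩

theorem L2_le : p₂.L ≤ Y.L := fun a ha => h.mem_L.2 ⟨1, one_mem _, a, ha, (one_mul a).symm⟩

/-- a product of two elements of the class, one in each factor, that is centralised by `t` -/
theorem norm {a b : G} (ha : a ∈ p₁.L) (hb : b ∈ p₂.L) (ca : IsConj (p₁.X 3 1) a)
    (ht : a * b * S.t = S.t * (a * b)) :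
    ∃ l ∈ Y.L, l * a * l⁻¹ = p₁.X 3 1 ∧ l * b * l⁻¹ = p₂.X 3 1 := by
  have e : a * b = S.t * b * S.t⁻¹ * (S.t * a * S.t⁻¹) := by
    calc _ = S.t * (a * b) * S.t⁻¹ := by rw [← ht]; group
      _ = _ := by rw [h.commL ha hb]; group
  have eb := (h.uniq ha (h.tL2 hb) hb (h.tL1 ha) e).2
  obtain ⟨l, hl, el⟩ := cm1 h ca ha
  have hl' := h.tL1 hl
  refine ⟨l * (S.t * l * S.t⁻¹), mul_mem (L1_le h hl) (L2_le h hl'), ?_, ?_⟩
  · rw [← el, mul_assoc l, ← h.commL ha hl']; group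
  · rw [h.commL hl hl', mul_assoc _ l, h.commL hl hb, ← h.tX1, ← el, eb]; group

theorem memL {x : G} (hc : IsConj (p₁.X 3 1) x) : x ∈ Y.L := by
  have x2 := PW6.sq_of hc (p₁.X_sq 3 1)
  obtain ⟨c, c2, c1, cx, ct, r⟩ := dih x2 S.tt fun r => h.notD (hc.trans r) rfl
  rcases r with r | r
  · exact absurd (by rw [mul_assoc, ← mul_assoc S.t, ← ct, mul_assoc]) (h.notD (hc.trans r))
  obtain ⟨d, hd, hP⟩ := odd_fix S.tt h.toBig.t_memM h.fixW (X := centralizer {c})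
    (mem_centralizer_singleton_iff.2 ct.symm) (isP_zp x2)
    ((zpowers_le (H := centralizer {c})).2 (mem_centralizer_singleton_iff.2 cx.symm))
  have dc : d * c = c * d := mem_centralizer_singleton_iff.1 hd
  obtain ⟨x0, e0⟩ : ∃ x0, x0 = d * x * d⁻¹ := ⟨_, rfl⟩
  have m0 : x0 ∈ Y.M := e0 ▸ hP x (mem_zpowers x)
  have k0 : IsConj (p₁.X 3 1) x0 := e0 ▸ hc.trans (PW6.cj x d)
  have k1 : IsConj (p₁.X 3 1) (c * x0) :=
    (hc.trans r).trans (isConj_iff.2 ⟨d, by rw [e0, ← mul_assoc, dc]; group⟩)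
  have x02 := PW6.sq_of k0 (p₁.X_sq 3 1)
  have ec : c * x0 * x0 = c := by rw [mul_assoc, x02, mul_one]
  have tc : S.t * c * S.t⁻¹ = c := by rw [← ct, mul_inv_cancel_right]
  have key : ∃ l ∈ Y.L, l * c * l⁻¹ = S.X 3 1 ∧
      (l * x0 * l⁻¹ = p₁.X 3 1 ∨ l * x0 * l⁻¹ = p₂.X 3 1) := by
    rcases cm h k0 m0 with a | a <;> rcases cm h k1 (mul_mem (h.toBig.cM ct) m0) with b | b
    · have := mul_mem b a
      rw [ec] at this
      exact absurd (h.disj c this (tc ▸ h.tL1 this)) c1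
    · have e : x0 * (c * x0) = c := by rw [h.commL a b, ec]
      obtain ⟨l, hl, r1, r2⟩ := norm h a b k0 (by rw [e, ct])
      refine ⟨l, hl, ?_, Or.inl r1⟩
      rw [h.SX, ← r1, ← r2]
      conv_lhs => rw [← e]
      group
    · obtain ⟨l, hl, r1, r2⟩ := norm h b a k1 (by rw [ec, ct])
      refine ⟨l, hl, ?_, Or.inr r2⟩
      rw [h.SX, ← r1, ← r2]
      conv_lhs => rw [← ec]
      group
    · have := mul_mem b a
      rw [ec] at this
      exact absurd (h.disj c (tc ▸ h.tL2 this) this) c1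
  obtain ⟨l, hl, r1, r2⟩ := key
  have he : l * d⁻¹ * l⁻¹ * S.X 3 1 = S.X 3 1 * (l * d⁻¹ * l⁻¹) := by
    rw [← r1]
    calc _ = l * (d⁻¹ * c) * l⁻¹ := by group
      _ = _ := by rw [(Commute.inv_left dc).eq]; group
  have e1 : l * x * l⁻¹ = l * d⁻¹ * l⁻¹ * (l * x0 * l⁻¹) * (l * d⁻¹ * l⁻¹)⁻¹ := by rw [e0]; group
  have m1 : l * d⁻¹ * l⁻¹ * p₁.X 3 1 * (l * d⁻¹ * l⁻¹)⁻¹ ∈ Y.L := by
    rcases cz1 h he with r | r <;> rw [r]
    · exact L1_le h (p₁.X_mem 3 1)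
    · exact L2_le h (p₂.X_mem 3 1)
  have m2 : l * x * l⁻¹ ∈ Y.L := by
    rcases r2 with r | r <;> rw [e1, r]
    · exact m1
    · rw [← z12 h, ← mul_assoc, mul_assoc _ (S.X 3 1), (Commute.inv_left he).eq.symm, ← mul_assoc]
      exact mul_mem m1 (h.toBig.L_le (S.X_mem 3 1))
  rwa [mul_mem_cancel_right (inv_mem hl), mul_mem_cancel_left hl] at m2

theorem le_of_normal {H : Subgroup G} [hn : H.Normal] (hz : p₁.X 3 1 ∈ H) : Y.L ≤ H := by
  have top : ∀ K : Subgroup G, K ≤ 𝐍(H) := fun K => by rw [normalizer_eq_top]; exact le_top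
  intro g hg
  obtain ⟨a, ha, b, hb, rfl⟩ := h.mem_L.1 hg
  exact mul_mem (p₁.L_le_of_norm (top _) hz ha)
    (p₂.L_le_of_norm (top _) (h.tX1 3 1 ▸ hn.conj_mem _ hz _) hb)

end PW7

namespace WS
variable {S : St E G} {Y : Pin (E × E) G} {p₁ p₂ : FP E G} {A : Subgroup G} (h : WS S Y p₁ p₂ A)
include h
theorem endW : normalClosure (S.L : Set G) = Y.L := by
  have e : normalClosure {p₁.X 3 1} = Y.L := le_antisymm
    ((closure_le _).2 fun x hx => by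
      obtain ⟨a, ha, r⟩ := Group.mem_conjugatesOfSet_iff.1 hx
      exact PW7.memL h (Set.mem_singleton_iff.1 ha ▸ r))
    (PW7.le_of_normal h (subset_normalClosure rfl))
  have hn : Y.L.Normal := e ▸ normalClosure_normal
  refine le_antisymm (normalClosure_le_normal h.toBig.L_le) (PW7.le_of_normal h ?_)
  have m : S.X 5 1 ∈ normalClosure (S.L : Set G) := subset_normalClosure (S.X_mem 5 1)
  have := mul_mem m (normalClosure_normal.conj_mem _ (inv_mem m) (p₁.X 1 1))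
  have e1 : p₁.X 3 1 = S.X 5 1 * (p₁.X 1 1 * (S.X 5 1)⁻¹ * (p₁.X 1 1)⁻¹) := by
    have := p₁.comm51' 1
    rw [← this, h.SX, commutatorElement_def, mul_inv_rev, mul_assoc (p₁.X 5 1) (p₂.X 5 1),
      ← mul_assoc (p₂.X 5 1), ← mul_assoc (p₂.X 5 1), ← h.comm 1 5]
    group
  rwa [e1]

theorem isoW : Nonempty (Y.L ≃* S.L × S.L) := by
  obtain ⟨e, -⟩ := h.emb
  let f₁ : S.L →* G := p₁.L.subtype.comp e.toMonoidHom
  let f₂ : S.L →* G := (MulAut.conj S.t).toMonoidHom.comp f₁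
  have m1 : ∀ a, f₁ a ∈ p₁.L := fun a => (e a).2
  have m2 : ∀ a, f₂ a ∈ p₂.L := fun a => h.tL1 (e a).2
  have i1 : Function.Injective f₁ := p₁.L.subtype_injective.comp e.injective
  have i2 : Function.Injective f₂ := (MulAut.conj S.t).injective.comp i1
  let f := f₁.noncommCoprod f₂ fun a b => h.commL (m1 a) (m2 b)
  have hf : ∀ x, f x = f₁ x.1 * f₂ x.2 := fun x => rfl
  have inj : Function.Injective f := fun x y r => by
    obtain ⟨r1, r2⟩ := h.uniq (m1 _) (m1 _) (m2 _) (m2 _) ((hf x).symm.trans (r.trans (hf y)))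
    exact Prod.ext (i1 r1) (i2 r2)
  have rg : f.range = Y.L := by
    ext g
    rw [h.mem_L]
    constructor
    · rintro ⟨x, rfl⟩
      exact ⟨_, m1 _, _, m2 _, hf x⟩
    · rintro ⟨a, ha, b, hb, rfl⟩
      refine ⟨(e.symm ⟨a, ha⟩, e.symm ⟨_, h.tL2 hb⟩), ?_⟩
      rw [hf]
      change ((e (e.symm _) : p₁.L) : G) * (S.t * ((e (e.symm _) : p₁.L) : G) * S.t⁻¹) = _
      rw [e.apply_symm_apply, e.apply_symm_apply]
      change a * (S.t * (S.t * b * S.t⁻¹) * S.t⁻¹) = _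
      rw [S.t_inv, ← mul_assoc S.t, ← mul_assoc S.t, S.tt, one_mul, mul_assoc b, S.tt, mul_one]
  exact ⟨((MonoidHom.ofInjective inj).trans (MulEquiv.subgroupCongr rg)).symm⟩

theorem iso1 : Nonempty (p₁.L ≃* S.L) ∧ Nonempty (p₂.L ≃* S.L) ∧ Y.L = p₁.L ⊔ p₂.L ∧
    Y.L ≤ 𝐍(p₁.L) ∧ Y.L ≤ 𝐍(p₂.L) := by
  obtain ⟨e, -⟩ := h.emb
  have c : p₁.L ^ᶜ S.t = p₂.L := le_antisymm
    (fun x hx => by obtain ⟨a, ha, rfl⟩ := mem_cj'.1 hx; exact h.tL1 ha)
    fun x hx => mem_cj.2 (by simpa only [S.t_inv] using h.tL2 hx)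
  have s : Y.L = p₁.L ⊔ p₂.L := le_antisymm
    (fun g hg => by
      obtain ⟨a, ha, b, hb, rfl⟩ := h.mem_L.1 hg
      exact mul_mem (mem_sup_left ha) (mem_sup_right hb))
    (sup_le (PW7.L1_le h) (PW7.L2_le h))
  refine ⟨⟨e.symm⟩, ⟨((MulEquiv.subgroupCongr c.symm).trans
    ((MulAut.conj S.t).subgroupMap p₁.L).symm).trans e.symm⟩, s, ?_, ?_⟩ <;> rw [s]
  · exact sup_le le_normalizer fun b hb => centralizer_le_normalizer _ fun a ha => h.commL ha hb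
  · exact sup_le (fun a ha => centralizer_le_normalizer _ fun b hb => (h.commL ha hb).symm) le_normalizer
end WS

end H89.D4S
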